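/-
Symbolic evaluation of extensions of subgroups of the stabiliser of the extra point by an
11-dimensional binary module: words, relators, linear consequences of pairs of derivations,
and a criterion for a complement above a Sylow 2-subgroup, extended by Gaschütz' theorem.
-/
import Cfsg.Agent.Golay.Cocode23
import Cfsg.Agent.Hall.StructBatch3
import Cfsg.Agent.MathieuOut.Cards

set_option autoImplicit false
set_option maxRecDepth 100000

namespace CfsgLib.M23Coh

open Cfsg CfsgLib.Golay CfsgLib.Golay.Cocode23

/-! ### Linear functionals given by masks -/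

/-- Value of a mask on an assignment. -/
def ev (n : ℕ) (x : ℕ → ZMod 2) (m : ℕ) : ZMod 2 := ∑ i ∈ Finset.range n, bz (m.testBit i) * x i

theorem ev_xor (n : ℕ) (x : ℕ → ZMod 2) (a b : ℕ) : ev n x (a ^^^ b) = ev n x a + ev n x b := by
  simp only [ev, Nat.testBit_xor, bz_xor, add_mul, Finset.sum_add_distrib]

theorem ev_zero (n : ℕ) (x : ℕ → ZMod 2) : ev n x 0 = 0 := by
  simp [ev, bz]

theorem ev_pow (n : ℕ) (x : ℕ → ZMod 2) {i : ℕ} (h : i < n) : ev n x (2 ^ i) = x i := by
  rw [ev, Finset.sum_eq_single i]
  · simp [bz]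
  · intro j _ hj
    simp [Nat.testBit_two_pow, bz, Ne.symm hj]
  · intro hi; simp at hi; omega

theorem ev_add (n : ℕ) (x y : ℕ → ZMod 2) (m : ℕ) : ev n (fun i => x i + y i) m = ev n x m + ev n y m := by
  simp only [ev, mul_add, Finset.sum_add_distrib]

/-- Exclusive or of a family of masks. -/
def xm {n : ℕ} (f : Fin n → ℕ) : ℕ := (List.finRange n).foldr (fun i r => f i ^^^ r) 0

theorem ev_xm {n : ℕ} (N : ℕ) (x : ℕ → ZMod 2) (f : Fin n → ℕ) : ev N x (xm f) = ∑ i, ev N x (f i) := by
  have h : ∀ l : List (Fin n),
      ev N x (l.foldr (fun i r => f i ^^^ r) 0) = (l.map fun i => ev N x (f i)).sum := by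
    intro l
    induction l with
    | nil => exact ev_zero N x
    | cons a r ih => rw [List.foldr_cons, ev_xor, ih, List.map_cons, List.sum_cons]
  rw [xm, h, ← List.ofFn_eq_map, List.sum_ofFn]

/-- Eleven masks as a vector of values. -/
def rv (n : ℕ) (x : ℕ → ZMod 2) (R : List ℕ) : V := fun i => ev n x (R.getD i.val 0)

/-- Rows from a family. -/
def rowsOf (f : Fin 11 → ℕ) : List ℕ := (List.finRange 11).map f

theorem getD_rowsOf (f : Fin 11 → ℕ) (i : Fin 11) : (rowsOf f).getD i.val 0 = f i := by
  rw [rowsOf, List.getD_eq_getElem _ _ (by simp), List.getElem_map, List.getElem_finRange]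
  rfl

/-- Sum of two row lists. -/
def xorRows (a b : List ℕ) : List ℕ := rowsOf fun i => a.getD i.val 0 ^^^ b.getD i.val 0

theorem rv_xor (n : ℕ) (x : ℕ → ZMod 2) (a b : List ℕ) : rv n x (xorRows a b) = rv n x a + rv n x b := by
  funext i; simp only [rv, xorRows, getD_rowsOf, ev_xor, Pi.add_apply]

theorem rv_nil (n : ℕ) (x : ℕ → ZMod 2) : rv n x [] = 0 := by
  funext i; simp [rv, ev_zero]

/-- A matrix given by the masks of its columns applied to rows. -/
def applyC (cols : List ℕ) (R : List ℕ) : List ℕ :=
  rowsOf fun bt => xm fun j : Fin 11 => bif (cols.getD j.val 0).testBit bt.val then R.getD j.val 0 else 0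

theorem rv_applyC (n : ℕ) (x : ℕ → ZMod 2) (cols R : List ℕ) (bt : Fin 11) :
    rv n x (applyC cols R) bt = ∑ j : Fin 11, rv n x R j * bz ((cols.getD j.val 0).testBit bt.val) := by
  simp only [rv, applyC, getD_rowsOf, ev_xm]
  refine Finset.sum_congr rfl fun j _ => ?_
  cases (cols.getD j.val 0).testBit bt.val <;> simp [bz, ev_zero]

/-! ### Extensions with coordinates -/

/-- The identity table. -/
def idTab : List ℕ := List.range 24

/-- A table of a permutation in the stabiliser of the extra point. -/
def okTab (g : List ℕ) : Bool := validTab g && presTab g && Nat.beq (g.getD 23 0) 23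

theorem okTab_spec {g : List ℕ} (h : okTab g = true) : validTab g = true ∧ permOf g ∈ Spor.M23 := by
  simp only [okTab, Bool.and_eq_true, Nat.beq_eq] at h
  exact ⟨h.1.1, mem_M23_of_tab h.1.1 h.1.2 h.2⟩

theorem idTab_ok : okTab idTab = true := by decide +kernel

theorem permOf_idTab : permOf idTab = 1 := by
  refine Equiv.ext fun p => idx_injective (Fin.ext ?_)
  rw [idx_permOf (okTab_spec idTab_ok).1, Equiv.Perm.one_apply]
  revert p
  decide +kernel

/-- An extension with kernel coordinatised by `ρ`, the action being given by the column masks `C`. -/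
structure Data (C : List ℕ → List ℕ) (E : Type*) [Group E] where
  /-- The quotient map. -/
  π : E →* Equiv.Perm GolayPt
  /-- Coordinates on the kernel. -/
  ρ : E → V
  π_mem : ∀ a, π a ∈ Spor.M23
  π_surj : ∀ s ∈ Spor.M23, ∃ a, π a = s
  add : ∀ a b, π a = 1 → π b = 1 → ρ (a * b) = ρ a + ρ b
  inj : ∀ a, π a = 1 → ρ a = 0 → a = 1
  surj : ∀ v, ∃ a, π a = 1 ∧ ρ a = v
  act : ∀ g, okTab g = true → ∀ h, π h = permOf g → ∀ a, π a = 1 → ∀ bt : Fin 11,
    ρ (h * a * h⁻¹) bt = ∑ j : Fin 11, ρ a j * bz (((C g).getD j.val 0).testBit bt.val)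

variable {C : List ℕ → List ℕ} {E : Type*} [Group E] (X : Data C E)

theorem Data.ρ_one : X.ρ 1 = 0 := by
  have h := X.add 1 1 (map_one _) (map_one _)
  rw [one_mul] at h
  exact left_eq_add.1 h

theorem Data.ρ_inv {a : E} (ha : X.π a = 1) : X.ρ a⁻¹ = X.ρ a := by
  have h := X.add a⁻¹ a (by rw [map_inv, ha, inv_one]) ha
  rw [inv_mul_cancel, X.ρ_one] at h
  funext i
  have hi := congrFun h i
  simp only [Pi.zero_apply, Pi.add_apply] at hi
  linear_combination -hi - z2 (X.ρ a i)

/-- Table of a word. -/
def wordT (gens : List (List ℕ)) (w : List ℕ) : List ℕ :=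
  w.foldr (fun i t => mulTab (gens.getD i idTab) t) idTab

/-- All the tables are good. -/
def okGens (gens : List (List ℕ)) : Bool := gens.all okTab

theorem gen_spec {gens : List (List ℕ)} (h : okGens gens = true) (i : ℕ) :
    okTab (gens.getD i idTab) = true := by
  by_cases hi : i < gens.length
  · rw [List.getD_eq_getElem _ _ hi]
    exact List.all_eq_true.1 h _ (List.getElem_mem _)
  · rw [List.getD_eq_default _ _ (not_lt.1 hi)]; exact idTab_ok

/-- The product of the lifts of a word. -/
def wordE (L : ℕ → E) (w : List ℕ) : E := w.foldr (fun i t => L i * t) 1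

theorem wordE_append (L : ℕ → E) (u v : List ℕ) : wordE L (u ++ v) = wordE L u * wordE L v := by
  induction u with
  | nil => simp [wordE]
  | cons a r ih => simp only [wordE, List.cons_append, List.foldr_cons] at ih ⊢; rw [ih, mul_assoc]

/-- A choice of lifts of the tables. -/
def IsLift (gens : List (List ℕ)) (L : ℕ → E) : Prop := ∀ i, X.π (L i) = permOf (gens.getD i idTab)

theorem exists_lift {gens : List (List ℕ)} (h : okGens gens = true) : ∃ L, IsLift X gens L := by
  choose L hL using fun i => X.π_surj _ (okTab_spec (gen_spec h i)).2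
  exact ⟨L, hL⟩

theorem wordT_spec {gens : List (List ℕ)} (h : okGens gens = true) {L : ℕ → E} (hL : IsLift X gens L)
    (w : List ℕ) : validTab (wordT gens w) = true ∧ X.π (wordE L w) = permOf (wordT gens w) := by
  induction w with
  | nil => exact ⟨(okTab_spec idTab_ok).1, by rw [wordT, List.foldr_nil, permOf_idTab]; exact map_one _⟩
  | cons a r ih =>
    obtain ⟨hv, he⟩ := mulTab_spec (okTab_spec (gen_spec h a)).1 ih.1
    refine ⟨hv, ?_⟩
    show X.π (L a * wordE L r) = permOf (mulTab _ (wordT gens r))
    rw [map_mul, he, hL a, ih.2]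

/-- Rewriting data: generators, relations and the column function. -/
structure Pres where
  /-- Tables of the generators. -/
  gens : List (List ℕ)
  /-- Relations. -/
  rels : List (List ℕ × List ℕ)

/-- Both sides of each relation give the same table, and the tables are good. -/
def Pres.ok (P : Pres) : Bool :=
  okGens P.gens && P.rels.all fun r => wordT P.gens r.1 == wordT P.gens r.2

/-- The relator value of a relation. -/
def relVal (L : ℕ → E) (r : List ℕ × List ℕ) : E := wordE L r.1 * (wordE L r.2)⁻¹

theorem π_relVal {P : Pres} (hP : P.ok = true) {L : ℕ → E} (hL : IsLift X P.gens L) (k : ℕ) :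
    X.π (relVal L (P.rels.getD k ([], []))) = 1 := by
  simp only [Pres.ok, Bool.and_eq_true, List.all_eq_true, beq_iff_eq] at hP
  rw [relVal, map_mul, map_inv, (wordT_spec X hP.1 hL _).2, (wordT_spec X hP.1 hL _).2, mul_inv_eq_one]
  by_cases hk : k < P.rels.length
  · rw [List.getD_eq_getElem _ _ hk, hP.2 _ (List.getElem_mem _)]
  · rw [List.getD_eq_default _ _ (not_lt.1 hk)]

/-- The coordinates of the relator values as one assignment. -/
def relX (P : Pres) (L : ℕ → E) (i : ℕ) : ZMod 2 :=
  X.ρ (relVal L (P.rels.getD (i / 11) ([], []))) ⟨i % 11, Nat.mod_lt _ (by omega)⟩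

/-- Number of coordinates. -/
def Pres.nb (P : Pres) : ℕ := 11 * P.rels.length

/-- The unit rows of a relation. -/
def unitRows (k : ℕ) : List ℕ := rowsOf fun j => 2 ^ (11 * k + j.val)

theorem rv_unitRows (P : Pres) (L : ℕ → E) {k : ℕ} (hk : k < P.rels.length) :
    rv P.nb (relX X P L) (unitRows k) = X.ρ (relVal L (P.rels.getD k ([], []))) := by
  funext j
  simp only [rv, unitRows, getD_rowsOf]
  rw [ev_pow _ _ (by rw [Pres.nb]; omega), relX]
  have h1 : (11 * k + j.val) / 11 = k := by omega
  have h2 : (⟨(11 * k + j.val) % 11, Nat.mod_lt _ (by omega)⟩ : Fin 11) = j := Fin.ext (by simp only []; omega)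
  rw [h1, h2]

/-! ### Derivations -/

/-- One step: relation, direction, position. -/
abbrev Step : Type := ℕ × Bool × ℕ

/-- Apply a step, returning the new word and the prefix. -/
def applyStep (P : Pres) (w : List ℕ) (s : Step) : Option (List ℕ × List ℕ) :=
  let r := P.rels.getD s.1 ([], [])
  let l := bif s.2.1 then r.2 else r.1
  let m := bif s.2.1 then r.1 else r.2
  bif Nat.blt s.1 P.rels.length && (List.take l.length (w.drop s.2.2) == l) then
    some (w.take s.2.2 ++ m ++ (w.drop s.2.2).drop l.length, w.take s.2.2)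
  else none

/-- Evaluate a derivation. -/
def evalPath (C : List ℕ → List ℕ) (P : Pres) : List Step → List ℕ → Option (List ℕ × List ℕ)
  | [], w => some (w, [])
  | s :: r, w =>
    match applyStep P w s with
    | none => none
    | some (w', u) =>
      match evalPath C P r w' with
      | none => none
      | some (wf, R) => some (wf, xorRows (applyC (C (wordT P.gens u)) (unitRows s.1)) R)

theorem act_rv {g : List ℕ} (hg : okTab g = true) {h : E} (hh : X.π h = permOf g) {a : E} (ha : X.π a = 1)
    (n : ℕ) (x : ℕ → ZMod 2) (R : List ℕ) (hR : X.ρ a = rv n x R) :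
    X.ρ (h * a * h⁻¹) = rv n x (applyC (C g) R) := by
  funext bt
  rw [X.act g hg h hh a ha, rv_applyC, hR]

theorem okTab_wordT {P : Pres} (hP : okGens P.gens = true) {L : ℕ → E} (hL : IsLift X P.gens L)
    (u : List ℕ) : okTab (wordT P.gens u) = true := by
  obtain ⟨hv, he⟩ := wordT_spec X hP hL u
  have hm : permOf (wordT P.gens u) ∈ Spor.M23 := he ▸ X.π_mem _
  simp only [okTab, Bool.and_eq_true, Nat.beq_eq]
  refine ⟨⟨hv, ?_⟩, ?_⟩
  · refine List.all_eq_true.2 fun a ha => ?_
    obtain ⟨v, hv', hv''⟩ := exists_word_basis a ha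
    have := mem_M24_iff.1 (Subgroup.mem_inf.1 hm).1 v hv'
    rw [mem_code_iff, wmask_comp, mask_smul hv, ← wmask, hv''] at this
    exact this
  · have h0 : permOf (wordT P.gens u) none = none :=
      MulAction.mem_stabilizer_iff.1 (Subgroup.mem_inf.1 hm).2
    have := idx_permOf hv none
    rw [h0] at this
    exact this.symm

theorem evalPath_spec {P : Pres} (hP : P.ok = true) {L : ℕ → E} (hL : IsLift X P.gens L) :
    ∀ (p : List Step) (w wf R : List ℕ), evalPath C P p w = some (wf, R) →
      ∃ n, X.π n = 1 ∧ wordE L w = n * wordE L wf ∧ X.ρ n = rv P.nb (relX X P L) R := by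
  have hok : okGens P.gens = true := by
    simp only [Pres.ok, Bool.and_eq_true] at hP; exact hP.1
  intro p
  induction p with
  | nil =>
    intro w wf R h
    simp only [evalPath, Option.some.injEq, Prod.mk.injEq] at h
    obtain ⟨rfl, rfl⟩ := h
    exact ⟨1, map_one _, (one_mul _).symm, by rw [X.ρ_one, rv_nil]⟩
  | cons s r ih =>
    intro w wf R h
    simp only [evalPath] at h
    split at h
    · simp at h
    rename_i w' u hs
    split at h
    · simp at h
    rename_i wf' R' hr
    simp only [Option.some.injEq, Prod.mk.injEq] at h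
    obtain ⟨rfl, rfl⟩ := h
    obtain ⟨n, hn, he, hρ⟩ := ih _ _ _ hr
    obtain ⟨k, b, pos⟩ := s
    simp only [applyStep] at hs
    set rr := P.rels.getD k ([], []) with hrr
    set l := (bif b then rr.2 else rr.1) with hl
    set m := (bif b then rr.1 else rr.2) with hm
    cases hc : (Nat.blt k P.rels.length && (List.take l.length (w.drop pos) == l))
    · rw [hc] at hs; simp at hs
    rw [hc] at hs
    simp only [cond_true, Option.some.injEq, Prod.mk.injEq] at hs
    obtain ⟨rfl, rfl⟩ := hs
    simp only [Bool.and_eq_true, Nat.blt_eq, beq_iff_eq] at hc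
    have hw : w = w.take pos ++ l ++ (w.drop pos).drop l.length := by
      conv_lhs => rw [← List.take_append_drop pos w, ← List.take_append_drop l.length (w.drop pos), hc.2]
      rw [List.append_assoc]
    set t := relVal L rr with ht
    have hπt : X.π t = 1 := π_relVal X hP hL k
    have hd : ∃ d, X.π d = 1 ∧ X.ρ d = X.ρ t ∧ wordE L l = d * wordE L m := by
      cases hb : b
      · refine ⟨t, hπt, rfl, ?_⟩
        simp only [hl, hm, hb, cond_false, ht, relVal]; group
      · refine ⟨t⁻¹, by rw [map_inv, hπt, inv_one], X.ρ_inv hπt, ?_⟩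
        simp only [hl, hm, hb, cond_true, ht, relVal]; group
    obtain ⟨d, hd1, hd2, hd3⟩ := hd
    set u := w.take pos
    set c := wordE L u * d * (wordE L u)⁻¹ with hcdef
    have hc1 : X.π c = 1 := by rw [hcdef, map_mul, map_mul, hd1, mul_one, map_inv, mul_inv_cancel]
    have hc2 : X.ρ c = rv P.nb (relX X P L) (applyC (C (wordT P.gens u)) (unitRows k)) :=
      act_rv X (okTab_wordT X hok hL u) (wordT_spec X hok hL u).2 hd1 _ _ _
        (by rw [hd2, rv_unitRows X P L hc.1])
    refine ⟨c * n, by rw [map_mul, hc1, hn, one_mul], ?_, ?_⟩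
    · rw [mul_assoc, ← he]
      conv_lhs => rw [hw]
      simp only [wordE_append, hd3, hcdef]
      group
    · rw [X.add c n hc1 hn, rv_xor, hc2, hρ]

/-- The rows of the consequence of two derivations from the same word. -/
def eqRows (C : List ℕ → List ℕ) (P : Pres) (e : List ℕ × List Step × List Step) : Option (List ℕ) :=
  match evalPath C P e.2.1 e.1, evalPath C P e.2.2 e.1 with
  | some (w1, R1), some (w2, R2) => bif w1 == w2 then some (xorRows R1 R2) else none
  | _, _ => none

theorem eqRows_spec {P : Pres} (hP : P.ok = true) {L : ℕ → E} (hL : IsLift X P.gens L)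
    {e : List ℕ × List Step × List Step} {R : List ℕ} (h : eqRows C P e = some R) :
    rv P.nb (relX X P L) R = 0 := by
  simp only [eqRows] at h
  split at h
  · rename_i w1 R1 w2 R2 h1 h2
    cases hw : (w1 == w2)
    · rw [hw] at h; simp at h
    rw [hw] at h
    simp only [cond_true, Option.some.injEq] at h
    subst h
    obtain ⟨n1, hn1, e1, r1⟩ := evalPath_spec X hP hL _ _ _ _ h1
    obtain ⟨n2, hn2, e2, r2⟩ := evalPath_spec X hP hL _ _ _ _ h2
    rw [beq_iff_eq] at hw
    subst hw
    have he : n1 = n2 := mul_right_cancel (e1.symm.trans e2)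
    subst he
    rw [rv_xor, ← r1, ← r2]
    funext i
    exact z2 _
  · simp at h

/-! ### Corrected lifts -/

/-- Rows of the correction of a word: the kernel part of the product of the corrected lifts. -/
def corrRows (C : List ℕ → List ℕ) (P : Pres) (D : List (List ℕ)) : List ℕ → List ℕ
  | [] => []
  | i :: r => xorRows (D.getD i []) (applyC (C (P.gens.getD i idTab)) (corrRows C P D r))

theorem corr_spec {P : Pres} (hok : okGens P.gens = true) {L L' : ℕ → E} (hL : IsLift X P.gens L)
    (D : List (List ℕ)) (n : ℕ) (x : ℕ → ZMod 2)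
    (hD : ∀ i, ∃ d, X.π d = 1 ∧ X.ρ d = rv n x (D.getD i []) ∧ L' i = d * L i) :
    ∀ w, ∃ d, X.π d = 1 ∧ X.ρ d = rv n x (corrRows C P D w) ∧ wordE L' w = d * wordE L w := by
  intro w
  induction w with
  | nil => exact ⟨1, map_one _, by rw [X.ρ_one, corrRows, rv_nil], (one_mul _).symm⟩
  | cons i r ih =>
    obtain ⟨d, hd1, hd2, hd3⟩ := ih
    obtain ⟨a, ha1, ha2, ha3⟩ := hD i
    have hc : X.π (L i * d * (L i)⁻¹) = 1 := by rw [map_mul, map_mul, hd1, mul_one, map_inv, mul_inv_cancel]
    refine ⟨a * (L i * d * (L i)⁻¹), by rw [map_mul, ha1, hc, one_mul], ?_, ?_⟩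
    · rw [X.add _ _ ha1 hc, ha2, corrRows, rv_xor, act_rv X (gen_spec hok i) (hL i) hd1 n x _ hd2]
    · show L' i * wordE L' r = _ * (L i * wordE L r)
      rw [hd3, ha3]; group

/-- The masks of a new relator value. -/
def newRows (C : List ℕ → List ℕ) (P : Pres) (D : List (List ℕ)) (k : ℕ) : List ℕ :=
  let r := P.rels.getD k ([], [])
  xorRows (xorRows (corrRows C P D r.1) (unitRows k)) (corrRows C P D r.2)

theorem newRows_spec {P : Pres} (hP : P.ok = true) {L L' : ℕ → E} (hL : IsLift X P.gens L)
    (D : List (List ℕ))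
    (hD : ∀ i, ∃ d, X.π d = 1 ∧ X.ρ d = rv P.nb (relX X P L) (D.getD i []) ∧ L' i = d * L i)
    {k : ℕ} (hk : k < P.rels.length)
    (h0 : rv P.nb (relX X P L) (newRows C P D k) = 0) :
    wordE L' (P.rels.getD k ([], [])).1 = wordE L' (P.rels.getD k ([], [])).2 := by
  have hok : okGens P.gens = true := by
    simp only [Pres.ok, Bool.and_eq_true] at hP; exact hP.1
  obtain ⟨a, ha1, ha2, ha3⟩ := corr_spec X hok hL D _ _ hD (P.rels.getD k ([], [])).1
  obtain ⟨b, hb1, hb2, hb3⟩ := corr_spec X hok hL D _ _ hD (P.rels.getD k ([], [])).2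
  have ht := π_relVal X hP hL k
  have hb' : X.π b⁻¹ = 1 := by rw [map_inv, hb1, inv_one]
  set t := relVal L (P.rels.getD k ([], [])) with htd
  have hat : X.π (a * t) = 1 := by rw [map_mul, ha1, ht, one_mul]
  have hz : a * t * b⁻¹ = 1 := by
    refine X.inj _ (by rw [map_mul, hat, hb', one_mul]) ?_
    rw [X.add _ _ hat hb', X.add _ _ ha1 ht, X.ρ_inv hb1, ha2, hb2, htd, ← rv_unitRows X P L hk]
    rw [newRows, rv_xor, rv_xor] at h0
    exact h0
  rw [ha3, hb3, ← mul_inv_eq_one]
  calc a * wordE L (P.rels.getD k ([], [])).1 * (b * wordE L (P.rels.getD k ([], [])).2)⁻¹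
      = a * t * b⁻¹ := by rw [htd, relVal]; group
    _ = 1 := hz

/-- Sum of selected rows. -/
def comb (rows : List ℕ) (c : ℕ) : ℕ :=
  match rows with
  | [] => 0
  | a :: r => (bif c % 2 == 1 then a else 0) ^^^ comb r (c / 2)

theorem ev_comb (n : ℕ) (x : ℕ → ZMod 2) :
    ∀ (rows : List ℕ), (∀ m ∈ rows, ev n x m = 0) → ∀ c, ev n x (comb rows c) = 0
  | [], _, _ => ev_zero n x
  | a :: r, h, c => by
    rw [comb, ev_xor, ev_comb n x r (fun m hm => h m (List.mem_cons_of_mem _ hm)), add_zero]
    cases c % 2 == 1
    · exact ev_zero n x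
    · exact h a List.mem_cons_self

/-- A certificate: derivations with their rows, corrections of the lifts, and for every new relator
mask the combination of rows, with a flag for the leftover class. -/
structure Cert where
  /-- Generators and relations. -/
  P : Pres
  /-- Derivations. -/
  eqs : List (List ℕ × List Step × List Step)
  /-- Selected rows of each of them. -/
  sel : List (List ℕ)
  /-- Corrections. -/
  D : List (List ℕ)
  /-- The leftover functional. -/
  phi : ℕ
  /-- For each new relator mask: the combination and the flag. -/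
  sol : List (ℕ × Bool)
  /-- Paths bringing the products of normal words with generators to normal words. -/
  nfPaths : List (List ℕ × List Step)
  /-- The normal words. -/
  nf : List (List ℕ)

/-- The first 28 relations act on the first seven generators only. -/
def pathEnd (P : Pres) : List Step → List ℕ → Option (List ℕ)
  | [], w => some w
  | s :: r, w =>
    bif Nat.blt s.1 28 then
      match applyStep P w s with
      | none => none
      | some (w', _) => pathEnd P r w'
    else none

/-- The selected rows. -/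
def Cert.rows (c : Cert) : List ℕ := c.sel.flatten

theorem all_of_chunks {α : Type*} (f : α → Bool) (n : ℕ) (hn : 0 < n) (l : List α) (m : ℕ)
    (hl : l.length ≤ n * m) (h : ∀ i < m, ((l.drop (n * i)).take n).all f = true) : l.all f = true := by
  rw [List.all_eq_true]
  intro x hx
  obtain ⟨j, hj, rfl⟩ := List.getElem_of_mem hx
  have hi : j / n < m := Nat.div_lt_of_lt_mul (lt_of_lt_of_le hj hl)
  refine List.all_eq_true.1 (h _ hi) _ ?_
  have h2 := Nat.div_add_mod j n
  have h3 := Nat.mod_lt j hn
  have hlen : j % n < ((l.drop (n * (j / n))).take n).length := by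
    rw [List.length_take, List.length_drop]; omega
  have he : ((l.drop (n * (j / n))).take n)[j % n] = l[j] := by
    rw [List.getElem_take, List.getElem_drop]
    simp only [h2]
  exact he ▸ List.getElem_mem hlen

/-- All selected rows occur among the derived ones. -/
def Cert.checkRows (c : Cert) (C : List ℕ → List ℕ) : Bool :=
  Nat.beq c.sel.length c.eqs.length && (c.eqs.zip c.sel).all fun q =>
    match eqRows C c.P q.1 with
    | some R => q.2.all fun m => R.contains m
    | none => false

/-- Every new relator mask is the announced combination. -/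
def Cert.checkSol (c : Cert) (C : List ℕ → List ℕ) : Bool :=
  Nat.blt 27 c.P.rels.length && (List.range 28).all fun k =>
    newRows C c.P c.D k == rowsOf fun bt =>
      comb c.rows (c.sol.getD (11 * k + bt.val) (0, false)).1 ^^^
        (bif (c.sol.getD (11 * k + bt.val) (0, false)).2 then c.phi else 0)

/-- The table is not the identity. -/
def notId (t : List ℕ) : Bool := !((List.range 24).all fun i => Nat.beq (t.getD i 0) i)

/-- The normal words form a group of order 128. -/
def Cert.checkNF (c : Cert) : Bool :=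
  c.nf.contains [] && Nat.beq c.nf.length 128 &&
  (c.nf.all fun w => w.all (fun i => Nat.blt i 7) && (w == [] || notId (wordT c.P.gens w))) &&
  (decide (c.nf.map (wordT c.P.gens)).Nodup) &&
  ((List.range c.nf.length).all fun q => (List.range 7).all fun i =>
    (c.nfPaths.getD (7 * q + i) ([], [])).1 == c.nf.getD q [] ++ [i] &&
      match pathEnd c.P (c.nfPaths.getD (7 * q + i) ([], [])).2 (c.nfPaths.getD (7 * q + i) ([], [])).1 with
      | some e => c.nf.contains e
      | none => false)

theorem relX_solution {c : Cert} (hP : c.P.ok = true) (hr : c.checkRows C = true) {L : ℕ → E}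
    (hL : IsLift X c.P.gens L) : ∀ m ∈ c.rows, ev c.P.nb (relX X c.P L) m = 0 := by
  intro m hm
  simp only [Cert.checkRows, Bool.and_eq_true, Nat.beq_eq, List.all_eq_true] at hr
  obtain ⟨S, hS, hmS⟩ := List.mem_flatten.1 hm
  obtain ⟨i, hi, rfl⟩ := List.getElem_of_mem hS
  have hz : (c.eqs[i]'(hr.1 ▸ hi), c.sel[i]) ∈ c.eqs.zip c.sel := by
    have : i < (c.eqs.zip c.sel).length := by rw [List.length_zip, ← hr.1, min_self]; exact hi
    rw [← List.getElem_zip (h := this)]
    exact List.getElem_mem _
  have h := hr.2 _ hz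
  simp only at h
  split at h
  · rename_i R he
    have h0 := eqRows_spec X hP hL he
    have hlen : R.length = 11 := by
      simp only [eqRows] at he
      split at he
      · rename_i w1 R1 w2 R2 _ _
        cases hw : (w1 == w2) <;> rw [hw] at he <;> simp at he
        subst he
        simp [xorRows, rowsOf]
      · simp at he
    have hmR : m ∈ R := by simpa using List.all_eq_true.1 h m hmS
    obtain ⟨j, hj, rfl⟩ := List.getElem_of_mem hmR
    have := congrFun h0 ⟨j, hlen ▸ hj⟩
    simp only [rv, Pi.zero_apply] at this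
    rwa [List.getD_eq_getElem _ _ hj] at this
  · simp at h

/-- If the leftover functional vanishes, there is a complement. -/
theorem exists_complement [Finite E] {c : Cert} (hP : c.P.ok = true) (hr : c.checkRows C = true)
    (hs : c.checkSol C = true) (hn : c.checkNF = true) {L : ℕ → E} (hL : IsLift X c.P.gens L)
    (hphi : ev c.P.nb (relX X c.P L) c.phi = 0) :
    ∃ H : Subgroup E, H ⊓ X.π.ker = ⊥ ∧ H ⊔ X.π.ker = ⊤ := by
  classical
  have hrow := relX_solution X hP hr hL
  have hok : okGens c.P.gens = true := by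
    have := hP; simp only [Pres.ok, Bool.and_eq_true] at this; exact this.1
  choose d hd1 hd2 using fun i => X.surj (rv c.P.nb (relX X c.P L) (c.D.getD i []))
  let L' : ℕ → E := fun i => d i * L i
  have hD : ∀ i, ∃ a, X.π a = 1 ∧ X.ρ a = rv c.P.nb (relX X c.P L) (c.D.getD i []) ∧ L' i = a * L i :=
    fun i => ⟨d i, hd1 i, hd2 i, rfl⟩
  have hL' : IsLift X c.P.gens L' := fun i => by
    show X.π (d i * L i) = _
    rw [map_mul, hd1, one_mul, hL i]
  simp only [Cert.checkSol, Bool.and_eq_true, Nat.blt_eq, List.all_eq_true, List.mem_range, beq_iff_eq] at hs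
  have hrel : ∀ k < 28, wordE L' (c.P.rels.getD k ([], [])).1 = wordE L' (c.P.rels.getD k ([], [])).2 := by
    intro k hk
    refine newRows_spec X hP hL c.D hD (by omega) (funext fun bt => ?_)
    show ev _ _ ((newRows C c.P c.D k).getD bt.val 0) = 0
    rw [hs.2 k hk, getD_rowsOf, ev_xor, ev_comb _ _ _ hrow, zero_add]
    cases (c.sol.getD (11 * k + bt.val) (0, false)).2
    · exact ev_zero _ _
    · exact hphi
  have hpath : ∀ (p : List Step) (w e : List ℕ), pathEnd c.P p w = some e → wordE L' w = wordE L' e := by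
    intro p
    induction p with
    | nil => intro w e h; simp only [pathEnd, Option.some.injEq] at h; rw [h]
    | cons s r ih =>
      intro w e h
      simp only [pathEnd] at h
      cases hk : Nat.blt s.1 28
      · rw [hk] at h; simp at h
      rw [hk] at h
      simp only [cond_true] at h
      split at h
      · simp at h
      rename_i w' u hs'
      rw [← ih _ _ h]
      obtain ⟨k, b, pos⟩ := s
      simp only [applyStep] at hs'
      set rr := c.P.rels.getD k ([], []) with hrr
      set l := (bif b then rr.2 else rr.1) with hl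
      set m := (bif b then rr.1 else rr.2) with hm
      cases hc : (Nat.blt k c.P.rels.length && (List.take l.length (w.drop pos) == l))
      · rw [hc] at hs'; simp at hs'
      rw [hc] at hs'
      simp only [cond_true, Option.some.injEq, Prod.mk.injEq] at hs'
      obtain ⟨rfl, -⟩ := hs'
      simp only [Bool.and_eq_true, beq_iff_eq] at hc
      have he : wordE L' l = wordE L' m := by
        have := hrel k (by simpa [Nat.blt_eq] using hk)
        cases hb : b <;> simp only [hl, hm, hb, cond_true, cond_false, hrr]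
        · exact this
        · exact this.symm
      conv_lhs => rw [← List.take_append_drop pos w, ← List.take_append_drop l.length (w.drop pos), hc.2]
      simp only [wordE_append, he, mul_assoc]
  simp only [Cert.checkNF, Bool.and_eq_true, List.contains_iff_mem, Nat.beq_eq, decide_eq_true_eq] at hn
  obtain ⟨⟨⟨⟨hnil, hlen⟩, hwords⟩, hnodup⟩, hstep⟩ := hn
  let A : Subgroup E := Subgroup.closure (L' '' {i | i < 7})
  have hA : (A : Set E) = wordE L' '' {w | w ∈ c.nf} := by
    refine Set.Subset.antisymm (fun a ha => ?_) ?_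
    · have ha' : a ∈ Submonoid.closure (L' '' {i | i < 7}) := by
        rw [← Subgroup.closure_toSubmonoid_of_finite]; exact ha
      induction ha' using Submonoid.closure_induction_right with
      | one => exact ⟨[], hnil, rfl⟩
      | mul_right x hx y hy ih =>
        obtain ⟨i, hi, rfl⟩ := hy
        obtain ⟨w, hw, rfl⟩ := ih (by rw [SetLike.mem_coe]; exact Submonoid.closure_le.2 Subgroup.subset_closure hx)
        obtain ⟨q, hq, hqw⟩ := List.getElem_of_mem hw
        have hp := List.all_eq_true.1 (List.all_eq_true.1 hstep q (List.mem_range.2 hq)) i (List.mem_range.2 hi)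
        rw [List.getD_eq_getElem c.nf _ hq, hqw] at hp
        set p := c.nfPaths.getD (7 * q + i) ([], [])
        simp only [Bool.and_eq_true, beq_iff_eq] at hp
        cases he : pathEnd c.P p.2 p.1 with
        | none => rw [he] at hp; simp at hp
        | some e =>
          rw [he] at hp
          refine ⟨e, by simpa using hp.2, ?_⟩
          rw [← hpath _ _ _ he, hp.1, wordE_append]
          simp [wordE]
    · rintro _ ⟨w, hw, rfl⟩
      have hw' := List.all_eq_true.1 hwords w hw
      simp only [Bool.and_eq_true, List.all_eq_true, Nat.blt_eq] at hw'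
      have : ∀ v : List ℕ, (∀ i ∈ v, i < 7) → wordE L' v ∈ A := by
        intro v
        induction v with
        | nil => intro _; exact A.one_mem
        | cons a r ih =>
          intro h
          exact A.mul_mem (Subgroup.subset_closure ⟨a, h a List.mem_cons_self, rfl⟩)
            (ih fun i hi => h i (List.mem_cons_of_mem _ hi))
      exact this w hw'.1
  have hAK : A ⊓ X.π.ker = ⊥ := by
    rw [eq_bot_iff]
    rintro a ⟨ha, hk⟩
    have ha' : a ∈ wordE L' '' {w | w ∈ c.nf} := hA ▸ ha
    obtain ⟨w, hw, rfl⟩ := ha'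
    have hw' := List.all_eq_true.1 hwords w hw
    simp only [Bool.and_eq_true, Bool.or_eq_true, beq_iff_eq] at hw'
    rcases hw'.2 with rfl | hne
    · exact Subgroup.mem_bot.2 rfl
    · exfalso
      obtain ⟨hv, he⟩ := wordT_spec X hok hL' w
      rw [MonoidHom.mem_ker.1 hk] at he
      simp only [notId, Bool.not_eq_true', Bool.eq_false_iff, ne_eq, List.all_eq_true, List.mem_range,
        Nat.beq_eq] at hne
      refine hne fun i hi => ?_
      have := idx_permOf hv (pt ⟨i, hi⟩)
      rw [← he, Equiv.Perm.one_apply, idx_pt] at this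
      exact this.symm
  have hcard : Nat.card A = 128 := by
    have hinj : Set.InjOn (wordE L') {w | w ∈ c.nf} := by
      intro u hu v hv h
      have e1 := wordT_spec X hok hL' u
      have e2 := wordT_spec X hok hL' v
      have h3 : permOf (wordT c.P.gens u) = permOf (wordT c.P.gens v) := by rw [← e1.2, ← e2.2, h]
      refine List.inj_on_of_nodup_map hnodup hu hv ?_
      obtain ⟨l1, -, -⟩ := validTab_bound e1.1
      obtain ⟨l2, -, -⟩ := validTab_bound e2.1
      refine List.ext_getElem (l1.trans l2.symm) fun i h1 h2 => ?_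
      have k1 := idx_permOf e1.1 (pt ⟨i, l1 ▸ h1⟩)
      have k2 := idx_permOf e2.1 (pt ⟨i, l1 ▸ h1⟩)
      rw [h3, k2, idx_pt, List.getD_eq_getElem _ _ h2, List.getD_eq_getElem _ _ h1] at k1
      exact k1.symm
    show Nat.card (A : Set E) = 128
    rw [hA, Nat.card_coe_set_eq, Set.InjOn.ncard_image hinj,
      show {w | w ∈ c.nf} = ((c.nf.toFinset : Finset _) : Set (List ℕ)) by ext; simp,
      Set.ncard_coe_finset, List.toFinset_card_of_nodup (List.Nodup.of_map _ hnodup), hlen]
  set K := X.π.ker
  have hKcard : Nat.card K = 2 ^ 11 := by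
    let e : K ≃ V := Equiv.ofBijective (fun a => X.ρ a.1) ⟨fun a b h => by
        refine Subtype.ext (mul_inv_eq_one.1 (X.inj _ ?_ ?_))
        · rw [map_mul, map_inv, MonoidHom.mem_ker.1 a.2, MonoidHom.mem_ker.1 b.2, inv_one, one_mul]
        · rw [X.add _ _ a.2 (by rw [map_inv, MonoidHom.mem_ker.1 b.2, inv_one]), X.ρ_inv b.2]
          funext i
          have hi := congrFun h i
          simp only [Pi.add_apply, Pi.zero_apply] at hi ⊢
          rw [hi, z2],
      fun v => ⟨⟨(X.surj v).choose, (X.surj v).choose_spec.1⟩, (X.surj v).choose_spec.2⟩⟩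
    rw [Nat.card_congr e, Nat.card_eq_fintype_card]
    simp
  have hrange : Nat.card X.π.range = 10200960 := by
    rw [show X.π.range = Spor.M23 from le_antisymm (by rintro _ ⟨a, rfl⟩; exact X.π_mem a)
      (fun s hs => X.π_surj s hs)]
    exact MathieuOut.card_M23
  have hE : Nat.card E = 10200960 * 2 ^ 11 := by
    rw [Subgroup.card_eq_card_quotient_mul_card_subgroup K, hKcard,
      Nat.card_congr (QuotientGroup.quotientKerEquivRange X.π).toEquiv, hrange]
  have hU : Nat.card (K ⊔ A : Subgroup E) = 2 ^ 11 * 128 := by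
    have h := Subgroup.card_eq_card_quotient_mul_card_subgroup (K.subgroupOf (K ⊔ A))
    rw [h, Nat.card_congr (Subgroup.subgroupOfEquivOfLe (le_sup_left (b := A))).toEquiv, hKcard]
    have h2 : Nat.card (↥(A ⊔ K) ⧸ K.subgroupOf (A ⊔ K)) = Nat.card (↥A ⧸ K.subgroupOf A) :=
      (Nat.card_congr (QuotientGroup.quotientInfEquivProdNormalQuotient A K).toEquiv).symm
    rw [sup_comm A K] at h2
    rw [h2]
    have : K.subgroupOf A = ⊥ := by
      rw [Subgroup.subgroupOf_eq_bot, disjoint_iff, inf_comm, hAK]
    rw [this, Nat.card_congr (QuotientGroup.quotientBot (G := ↥A)).toEquiv, hcard, mul_comm]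
  have hidx : (K ⊔ A).index = 79695 := by
    have h := Subgroup.card_mul_index (K ⊔ A)
    rw [hU, hE] at h
    omega
  haveI : IsMulCommutative K := ⟨⟨fun a b => Subtype.ext (by
    refine mul_inv_eq_one.1 (X.inj _ ?_ ?_)
    · simp [MonoidHom.mem_ker.1 a.2, MonoidHom.mem_ker.1 b.2]
    · show X.ρ ((a.1 * b.1) * (b.1 * a.1)⁻¹) = 0
      have hab : X.π (a.1 * b.1) = 1 := by simp [MonoidHom.mem_ker.1 a.2, MonoidHom.mem_ker.1 b.2]
      have hba : X.π (b.1 * a.1) = 1 := by simp [MonoidHom.mem_ker.1 a.2, MonoidHom.mem_ker.1 b.2]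
      rw [X.add _ _ hab (by rw [map_inv, hba, inv_one]), X.ρ_inv hba, X.add _ _ a.2 b.2, X.add _ _ b.2 a.2,
        add_comm (X.ρ b.1)]
      funext i; exact z2 _)⟩⟩
  obtain ⟨H, hH⟩ := CfsgLib.Hall.Struct.gaschutz_existence K (K ⊔ A) le_sup_left
    (by rw [hKcard, hidx]; norm_num) A le_sup_right hAK rfl
  exact ⟨H, by rw [inf_comm]; exact disjoint_iff.1 hH.disjoint, by rw [sup_comm]; exact hH.sup_eq_top⟩

end CfsgLib.M23Coh
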