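/-
The sum of two extensions, and the isomorphism coming from a complement in it.
-/
import Cfsg.Agent.M23Coh.Basic

set_option autoImplicit false

namespace CfsgLib.M23Coh

open Cfsg CfsgLib.Golay CfsgLib.Golay.Cocode23

universe u v

variable {C : List ℕ → List ℕ} {E : Type u} [Group E] {E' : Type v} [Group E']

theorem exists_okTab {s : Equiv.Perm GolayPt} (hs : s ∈ Spor.M23) :
    ∃ g, okTab g = true ∧ permOf g = s := by
  refine ⟨tabOf s, ?_, permOf_tabOf s⟩
  have hv := validTab_tabOf s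
  simp only [okTab, Bool.and_eq_true, Nat.beq_eq]
  refine ⟨⟨hv, List.all_eq_true.2 fun a ha => ?_⟩, ?_⟩
  · obtain ⟨w, hw, hw'⟩ := exists_word_basis a ha
    have h1 := mem_M24_iff.1 (Subgroup.mem_inf.1 hs).1 w hw
    rw [mem_code_iff, wmask_comp, ← permOf_tabOf s, mask_smul hv, ← wmask, hw'] at h1
    exact h1
  · have h0 : s none = none := MulAction.mem_stabilizer_iff.1 (Subgroup.mem_inf.1 hs).2
    have h1 := idx_permOf hv none
    rw [permOf_tabOf, h0] at h1
    exact h1.symm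

variable (X : Data C E) (X' : Data C E')

/-- Pairs over the same permutation. -/
def fibre : Subgroup (E × E') :=
  MonoidHom.eqLocus (X.π.comp (MonoidHom.fst E E')) (X'.π.comp (MonoidHom.snd E E'))

theorem fibre_π (d : ↥(fibre X X')) : X.π d.1.1 = X'.π d.1.2 := d.2

/-- Pairs of kernel elements with the same coordinates. -/
def anti : Subgroup ↥(fibre X X') where
  carrier := {d | X.π d.1.1 = 1 ∧ X.ρ d.1.1 = X'.ρ d.1.2}
  one_mem' := ⟨map_one _, X.ρ_one.trans X'.ρ_one.symm⟩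
  mul_mem' {a b} ha hb := by
    refine ⟨by rw [Subgroup.coe_mul, Prod.fst_mul, map_mul, ha.1, hb.1, one_mul], ?_⟩
    rw [Subgroup.coe_mul, Prod.fst_mul, Prod.snd_mul, X.add _ _ ha.1 hb.1,
      X'.add _ _ ((fibre_π X X' a).symm.trans ha.1) ((fibre_π X X' b).symm.trans hb.1), ha.2, hb.2]
  inv_mem' {a} ha := by
    refine ⟨by rw [Subgroup.coe_inv, Prod.fst_inv, map_inv, ha.1, inv_one], ?_⟩
    rw [Subgroup.coe_inv, Prod.fst_inv, Prod.snd_inv, X.ρ_inv ha.1,
      X'.ρ_inv ((fibre_π X X' a).symm.trans ha.1), ha.2]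

instance anti_normal : (anti X X').Normal := by
  refine ⟨fun a ha h => ⟨?_, ?_⟩⟩
  · simp only [Subgroup.coe_mul, Subgroup.coe_inv, Prod.fst_mul, Prod.fst_inv, map_mul, map_inv, ha.1, mul_one,
      mul_inv_cancel]
  · obtain ⟨g, hg, hg'⟩ := exists_okTab (X.π_mem h.1.1)
    funext bt
    simp only [Subgroup.coe_mul, Subgroup.coe_inv, Prod.fst_mul, Prod.fst_inv, Prod.snd_mul, Prod.snd_inv]
    rw [X.act g hg _ hg'.symm _ ha.1, X'.act g hg _ ((fibre_π X X' h).symm.trans hg'.symm) _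
      ((fibre_π X X' a).symm.trans ha.1), ha.2]

/-- The quotient map of the sum. -/
def sumπ : ↥(fibre X X') ⧸ anti X X' →* Equiv.Perm GolayPt :=
  QuotientGroup.lift _ (X.π.comp ((MonoidHom.fst E E').comp (fibre X X').subtype)) fun _ ha => ha.1

/-- Coordinates of a pair. -/
def pairρ (d : ↥(fibre X X')) : V := X.ρ d.1.1 + X'.ρ d.1.2

theorem pairρ_add {a b : ↥(fibre X X')} (ha : X.π a.1.1 = 1) (hb : X.π b.1.1 = 1) :
    pairρ X X' (a * b) = pairρ X X' a + pairρ X X' b := by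
  simp only [pairρ, Subgroup.coe_mul, Prod.fst_mul, Prod.snd_mul]
  rw [X.add _ _ ha hb, X'.add _ _ ((fibre_π X X' a).symm.trans ha) ((fibre_π X X' b).symm.trans hb)]
  abel

/-- Coordinates on the sum. -/
noncomputable def sumρ (q : ↥(fibre X X') ⧸ anti X X') : V := pairρ X X' q.out

theorem sumρ_mk (d : ↥(fibre X X')) (hd : X.π d.1.1 = 1) :
    sumρ X X' (QuotientGroup.mk d) = pairρ X X' d := by
  obtain ⟨n, hn⟩ := QuotientGroup.mk_out_eq_mul (anti X X') d
  rw [sumρ, hn, pairρ_add X X' hd n.2.1]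
  funext i
  simp only [pairρ, Pi.add_apply, congrFun n.2.2 i, z2, add_zero]

/-- The sum of the two extensions. -/
noncomputable def sumData : Data C (↥(fibre X X') ⧸ anti X X') where
  π := sumπ X X'
  ρ := sumρ X X'
  π_mem q := by
    obtain ⟨d, rfl⟩ := QuotientGroup.mk_surjective q
    exact X.π_mem _
  π_surj s hs := by
    obtain ⟨a, ha⟩ := X.π_surj s hs
    obtain ⟨b, hb⟩ := X'.π_surj s hs
    exact ⟨QuotientGroup.mk ⟨(a, b), ha.trans hb.symm⟩, ha⟩
  add a b ha hb := by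
    obtain ⟨x, rfl⟩ := QuotientGroup.mk_surjective a
    obtain ⟨y, rfl⟩ := QuotientGroup.mk_surjective b
    change X.π x.1.1 = 1 at ha
    change X.π y.1.1 = 1 at hb
    rw [← QuotientGroup.mk_mul, sumρ_mk X X' _ (by
      rw [Subgroup.coe_mul, Prod.fst_mul, map_mul, ha, hb, one_mul]), sumρ_mk X X' _ ha, sumρ_mk X X' _ hb,
      pairρ_add X X' ha hb]
  inj a ha h0 := by
    obtain ⟨x, rfl⟩ := QuotientGroup.mk_surjective a
    change X.π x.1.1 = 1 at ha
    rw [sumρ_mk X X' _ ha] at h0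
    refine (QuotientGroup.eq_one_iff x).2 ⟨ha, funext fun i => ?_⟩
    have := congrFun h0 i
    simp only [pairρ, Pi.add_apply, Pi.zero_apply] at this
    linear_combination this - z2 (X'.ρ x.1.2 i)
  surj v := by
    obtain ⟨a, ha, hv⟩ := X.surj v
    refine ⟨QuotientGroup.mk ⟨(a, 1), (show X.π a = X'.π 1 by rw [ha, map_one])⟩, ha, ?_⟩
    rw [sumρ_mk X X' _ ha, pairρ, X'.ρ_one, add_zero, hv]
  act g hg h hh a ha bt := by
    obtain ⟨y, rfl⟩ := QuotientGroup.mk_surjective h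
    obtain ⟨x, rfl⟩ := QuotientGroup.mk_surjective a
    change X.π x.1.1 = 1 at ha
    change X.π y.1.1 = permOf g at hh
    rw [← QuotientGroup.mk_inv, ← QuotientGroup.mk_mul, ← QuotientGroup.mk_mul, sumρ_mk X X' _ (by
      simp only [Subgroup.coe_mul, Subgroup.coe_inv, Prod.fst_mul, Prod.fst_inv, map_mul, map_inv, ha, mul_one,
        mul_inv_cancel]), sumρ_mk X X' _ ha]
    simp only [pairρ, Subgroup.coe_mul, Subgroup.coe_inv, Prod.fst_mul, Prod.fst_inv, Prod.snd_mul, Prod.snd_inv,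
      Pi.add_apply, add_mul, Finset.sum_add_distrib]
    rw [X.act g hg _ hh _ ha, X'.act g hg _ ((fibre_π X X' y).symm.trans hh) _
      ((fibre_π X X' x).symm.trans ha)]

/-- The lifts of the sum. -/
def pairLift {gens : List (List ℕ)} (L : ℕ → E) (L' : ℕ → E') (hL : IsLift X gens L)
    (hL' : IsLift X' gens L') (i : ℕ) : ↥(fibre X X') :=
  ⟨(L i, L' i), (hL i).trans (hL' i).symm⟩

theorem relX_sum {P : Pres} (hP : P.ok = true) {L : ℕ → E} {L' : ℕ → E'} (hL : IsLift X P.gens L)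
    (hL' : IsLift X' P.gens L') :
    IsLift (sumData X X') P.gens (fun i => QuotientGroup.mk (pairLift X X' L L' hL hL' i)) ∧
    ∀ i, relX (sumData X X') P (fun i => QuotientGroup.mk (pairLift X X' L L' hL hL' i)) i
      = relX X P L i + relX X' P L' i := by
  refine ⟨fun i => hL i, fun i => ?_⟩
  set pl := pairLift X X' L L' hL hL' with hpl
  have hw : ∀ w : List ℕ, wordE (fun i => (QuotientGroup.mk (pl i) : ↥(fibre X X') ⧸ anti X X')) w
      = QuotientGroup.mk (wordE pl w) ∧ (wordE pl w).1 = (wordE L w, wordE L' w) := by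
    intro w
    induction w with
    | nil => exact ⟨rfl, rfl⟩
    | cons a r ih =>
      simp only [wordE, List.foldr_cons] at ih ⊢
      refine ⟨by rw [ih.1, QuotientGroup.mk_mul], ?_⟩
      rw [Subgroup.coe_mul, ih.2]
      rfl
  set r := P.rels.getD (i / 11) ([], [])
  have h1 : relVal (fun i => (QuotientGroup.mk (pl i) : ↥(fibre X X') ⧸ anti X X')) r
      = QuotientGroup.mk (relVal pl r) := by
    simp only [relVal, (hw r.1).1, (hw r.2).1, QuotientGroup.mk_mul, QuotientGroup.mk_inv]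
  have h2 : (relVal pl r).1 = (relVal L r, relVal L' r) := by
    simp only [relVal, Subgroup.coe_mul, Subgroup.coe_inv, (hw r.1).2, (hw r.2).2]
    rfl
  show sumρ X X' (relVal _ r) _ = _
  rw [h1, sumρ_mk X X' _ (by rw [h2]; exact π_relVal X hP hL _), pairρ, h2]
  rfl

/-- A complement in the sum gives an isomorphism. -/
theorem nonempty_mulEquiv (H : Subgroup (↥(fibre X X') ⧸ anti X X'))
    (hi : H ⊓ (sumData X X').π.ker = ⊥) (hs : H ⊔ (sumData X X').π.ker = ⊤) :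
    Nonempty (E ≃* E') := by
  let G : Subgroup ↥(fibre X X') := H.comap (QuotientGroup.mk' (anti X X'))
  have key : ∀ d : ↥(fibre X X'), ∃ n n', X.π n = 1 ∧ X'.π n' = 1 ∧
      (∃ hn : (n, n') ∈ fibre X X', d * ⟨(n, n'), hn⟩ ∈ G) := by
    intro d
    obtain ⟨y, hy, x, hx, he⟩ := Subgroup.mem_sup_of_normal_right.1
      (hs ▸ Subgroup.mem_top (QuotientGroup.mk d : ↥(fibre X X') ⧸ anti X X'))
    obtain ⟨z, rfl⟩ := QuotientGroup.mk_surjective x
    have hz : X.π z.1.1 = 1 := MonoidHom.mem_ker.1 hx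
    refine ⟨z⁻¹.1.1, z⁻¹.1.2, ?_, ?_, (z⁻¹).2, ?_⟩
    · simp [hz]
    · simp [(fibre_π X X' z).symm.trans hz]
    · show QuotientGroup.mk (d * z⁻¹) ∈ H
      rw [QuotientGroup.mk_mul, QuotientGroup.mk_inv, ← he, mul_assoc, mul_inv_cancel, mul_one]
      exact hy
  have hker : ∀ d ∈ G, X.π d.1.1 = 1 → X.ρ d.1.1 = X'.ρ d.1.2 := by
    intro d hd h
    have : (QuotientGroup.mk d : ↥(fibre X X') ⧸ anti X X') ∈ H ⊓ (sumData X X').π.ker :=
      ⟨hd, MonoidHom.mem_ker.2 h⟩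
    rw [hi, Subgroup.mem_bot, QuotientGroup.eq_one_iff] at this
    exact this.2
  let p : ↥G →* E := (MonoidHom.fst E E').comp ((fibre X X').subtype.comp G.subtype)
  let p' : ↥G →* E' := (MonoidHom.snd E E').comp ((fibre X X').subtype.comp G.subtype)
  have hbij : Function.Bijective p := by
    refine ⟨(injective_iff_map_eq_one p).2 fun d hd => ?_, fun a => ?_⟩
    · have hd1 : d.1.1.1 = 1 := hd
      have h0 := hker d.1 d.2 (by rw [hd1, map_one])
      rw [hd1, X.ρ_one] at h0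
      have h2 : d.1.1.2 = 1 := X'.inj _ (by rw [← fibre_π X X' d.1, hd1, map_one]) h0.symm
      exact Subtype.ext (Subtype.ext (Prod.ext hd1 h2))
    · obtain ⟨b, hb⟩ := X'.π_surj _ (X.π_mem a)
      obtain ⟨n, n', hn1, hn2, hn, hG⟩ := key ⟨(a, b), hb.symm⟩
      obtain ⟨m, hm1, hm2⟩ := X'.surj (X.ρ n)
      have ha : ((n⁻¹, m⁻¹) : E × E') ∈ fibre X X' := by
        show X.π n⁻¹ = X'.π m⁻¹
        rw [map_inv, map_inv, hn1, hm1]
      have hanti : (⟨(n⁻¹, m⁻¹), ha⟩ : ↥(fibre X X')) ∈ anti X X' :=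
        ⟨by rw [map_inv, hn1, inv_one], by rw [X.ρ_inv hn1, X'.ρ_inv hm1, hm2]⟩
      refine ⟨⟨⟨(a, b), hb.symm⟩ * ⟨(n, n'), hn⟩ * ⟨(n⁻¹, m⁻¹), ha⟩, ?_⟩, ?_⟩
      · show QuotientGroup.mk (_ * _) ∈ H
        rw [QuotientGroup.mk_mul, (QuotientGroup.eq_one_iff _).2 hanti, mul_one]
        exact hG
      · show a * n * n⁻¹ = a
        group
  have hbij' : Function.Bijective p' := by
    refine ⟨(injective_iff_map_eq_one p').2 fun d hd => ?_, fun b => ?_⟩
    · have hd1 : d.1.1.2 = 1 := hd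
      have hπ : X.π d.1.1.1 = 1 := by rw [fibre_π X X' d.1, hd1, map_one]
      have h0 := hker d.1 d.2 hπ
      rw [hd1, X'.ρ_one] at h0
      exact Subtype.ext (Subtype.ext (Prod.ext (X.inj _ hπ h0) hd1))
    · obtain ⟨a, ha'⟩ := X.π_surj _ (X'.π_mem b)
      obtain ⟨n, n', hn1, hn2, hn, hG⟩ := key ⟨(a, b), ha'⟩
      obtain ⟨m, hm1, hm2⟩ := X.surj (X'.ρ n')
      have ha : ((m⁻¹, n'⁻¹) : E × E') ∈ fibre X X' := by
        show X.π m⁻¹ = X'.π n'⁻¹
        rw [map_inv, map_inv, hn2, hm1]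
      have hanti : (⟨(m⁻¹, n'⁻¹), ha⟩ : ↥(fibre X X')) ∈ anti X X' :=
        ⟨by rw [map_inv, hm1, inv_one], by rw [X.ρ_inv hm1, X'.ρ_inv hn2, hm2]⟩
      refine ⟨⟨⟨(a, b), ha'⟩ * ⟨(n, n'), hn⟩ * ⟨(m⁻¹, n'⁻¹), ha⟩, ?_⟩, ?_⟩
      · show QuotientGroup.mk (_ * _) ∈ H
        rw [QuotientGroup.mk_mul, (QuotientGroup.eq_one_iff _).2 hanti, mul_one]
        exact hG
      · show b * n' * n'⁻¹ = b
        group
  exact ⟨(MulEquiv.ofBijective p hbij).symm.trans (MulEquiv.ofBijective p' hbij')⟩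

end CfsgLib.M23Coh
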