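/-
Checks of the certificate for the module.
-/
import Cfsg.Agent.M23Coh.CocodeData

set_option autoImplicit false
set_option maxRecDepth 100000

namespace CfsgLib.M23Coh.CocodeData

open CfsgLib.Golay CfsgLib.Golay.Cocode23

/-- Columns of the action. -/
def colsOf (g : List ℕ) : List ℕ :=
  rowsOf fun j => Nat.ofBits fun i : Fin 11 => (bmask i).testBit (g.getD (j.val + 1) 0)

theorem cert_ok : cert.P.ok = true := by decide +kernel

/-- The test of the rows of one derivation. -/
def rowTest (q : (List ℕ × List Step × List Step) × List ℕ) : Bool :=
  match eqRows colsOf cert.P q.1 with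
  | some R => q.2.all fun m => R.contains m
  | none => false

theorem rowsChk0 : (((cert.eqs.zip cert.sel).drop (15 * 0)).take 15).all rowTest = true := by decide +kernel

theorem rowsChk1 : (((cert.eqs.zip cert.sel).drop (15 * 1)).take 15).all rowTest = true := by decide +kernel

theorem rowsChk2 : (((cert.eqs.zip cert.sel).drop (15 * 2)).take 15).all rowTest = true := by decide +kernel

theorem rowsChk3 : (((cert.eqs.zip cert.sel).drop (15 * 3)).take 15).all rowTest = true := by decide +kernel

theorem rowsChk4 : (((cert.eqs.zip cert.sel).drop (15 * 4)).take 15).all rowTest = true := by decide +kernel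

theorem rowsChk5 : (((cert.eqs.zip cert.sel).drop (15 * 5)).take 15).all rowTest = true := by decide +kernel

theorem rowsChk6 : (((cert.eqs.zip cert.sel).drop (15 * 6)).take 15).all rowTest = true := by decide +kernel

theorem rowsChk7 : (((cert.eqs.zip cert.sel).drop (15 * 7)).take 15).all rowTest = true := by decide +kernel

theorem rowsChk8 : (((cert.eqs.zip cert.sel).drop (15 * 8)).take 15).all rowTest = true := by decide +kernel

theorem rowsChk9 : (((cert.eqs.zip cert.sel).drop (15 * 9)).take 15).all rowTest = true := by decide +kernel

theorem rows_all : ∀ i < 10, (((cert.eqs.zip cert.sel).drop (15 * i)).take 15).all rowTest = true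
  | 0, _ => rowsChk0
  | 1, _ => rowsChk1
  | 2, _ => rowsChk2
  | 3, _ => rowsChk3
  | 4, _ => rowsChk4
  | 5, _ => rowsChk5
  | 6, _ => rowsChk6
  | 7, _ => rowsChk7
  | 8, _ => rowsChk8
  | 9, _ => rowsChk9
  | (k + 10), h => absurd h (by omega)

theorem cert_rows : cert.checkRows colsOf = true := by
  simp only [Cert.checkRows, Bool.and_eq_true]
  refine ⟨by decide +kernel, ?_⟩
  exact all_of_chunks rowTest 15 (by norm_num) _ 10 (by decide +kernel) rows_all

/-- The test of one new relator. -/
def solTest (k : ℕ) : Bool :=
  newRows colsOf cert.P cert.D k == rowsOf fun bt =>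
    comb cert.rows (cert.sol.getD (11 * k + bt.val) (0, false)).1 ^^^
      (bif (cert.sol.getD (11 * k + bt.val) (0, false)).2 then cert.phi else 0)

theorem solChk0 : (((List.range 28).drop (7 * 0)).take 7).all solTest = true := by decide +kernel

theorem solChk1 : (((List.range 28).drop (7 * 1)).take 7).all solTest = true := by decide +kernel

theorem solChk2 : (((List.range 28).drop (7 * 2)).take 7).all solTest = true := by decide +kernel

theorem solChk3 : (((List.range 28).drop (7 * 3)).take 7).all solTest = true := by decide +kernel

theorem sol_all : ∀ i < 4, (((List.range 28).drop (7 * i)).take 7).all solTest = true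
  | 0, _ => solChk0
  | 1, _ => solChk1
  | 2, _ => solChk2
  | 3, _ => solChk3
  | (k + 4), h => absurd h (by omega)

theorem cert_sol : cert.checkSol colsOf = true := by
  simp only [Cert.checkSol, Bool.and_eq_true]
  refine ⟨by decide +kernel, ?_⟩
  exact all_of_chunks solTest 7 (by norm_num) _ 4 (by decide +kernel) sol_all

/-- The test of one normal word times a generator. -/
def nfTest (q : ℕ) : Bool :=
  (List.range 7).all fun i =>
    (cert.nfPaths.getD (7 * q + i) ([], [])).1 == cert.nf.getD q [] ++ [i] &&
      match pathEnd cert.P (cert.nfPaths.getD (7 * q + i) ([], [])).2 (cert.nfPaths.getD (7 * q + i) ([], [])).1 with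
      | some e => cert.nf.contains e
      | none => false

theorem nfChk0 : (((List.range cert.nf.length).drop (16 * 0)).take 16).all nfTest = true := by decide +kernel

theorem nfChk1 : (((List.range cert.nf.length).drop (16 * 1)).take 16).all nfTest = true := by decide +kernel

theorem nfChk2 : (((List.range cert.nf.length).drop (16 * 2)).take 16).all nfTest = true := by decide +kernel

theorem nfChk3 : (((List.range cert.nf.length).drop (16 * 3)).take 16).all nfTest = true := by decide +kernel

theorem nfChk4 : (((List.range cert.nf.length).drop (16 * 4)).take 16).all nfTest = true := by decide +kernel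

theorem nfChk5 : (((List.range cert.nf.length).drop (16 * 5)).take 16).all nfTest = true := by decide +kernel

theorem nfChk6 : (((List.range cert.nf.length).drop (16 * 6)).take 16).all nfTest = true := by decide +kernel

theorem nfChk7 : (((List.range cert.nf.length).drop (16 * 7)).take 16).all nfTest = true := by decide +kernel

theorem nf_all : ∀ i < 8, (((List.range cert.nf.length).drop (16 * i)).take 16).all nfTest = true
  | 0, _ => nfChk0
  | 1, _ => nfChk1
  | 2, _ => nfChk2
  | 3, _ => nfChk3
  | 4, _ => nfChk4
  | 5, _ => nfChk5
  | 6, _ => nfChk6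
  | 7, _ => nfChk7
  | (k + 8), h => absurd h (by omega)

theorem cert_nf : cert.checkNF = true := by
  simp only [Cert.checkNF, Bool.and_eq_true]
  refine ⟨by simp only [← Bool.and_eq_true]; decide +kernel, ?_⟩
  exact all_of_chunks nfTest 16 (by norm_num) _ 8 (by decide +kernel) nf_all

end CfsgLib.M23Coh.CocodeData
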