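/-
Extensions by the cocode module fit the symbolic setting; uniqueness of the non-split one.
-/
import Cfsg.Agent.M23Coh.CocodeCheck

set_option autoImplicit false
set_option maxHeartbeats 1000000

namespace CfsgLib.M23Coh

open Cfsg CfsgLib.Golay CfsgLib.Golay.Cocode23

/-- Coordinates of the functional given by a word. -/
def dualCo (w : GolayPt → ZMod 2) : V := fun j => ∑ p, wordW (bmask j) p * w p

theorem dual_pairing (x : V) (w : GolayPt → ZMod 2) : ∑ p, e x p * w p = ∑ j, x j * dualCo w j := by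
  simp only [e, dualCo, Finset.sum_mul, Finset.mul_sum]
  rw [Finset.sum_comm]
  exact Finset.sum_congr rfl fun j _ => Finset.sum_congr rfl fun p _ => mul_assoc _ _ _

theorem e_ev (i : Fin 11) : e (Cocode23.ev i) = wordW (bmask i) := by
  funext p
  simp [e, Cocode23.ev, Pi.single_apply]

theorem dual_act {g : List ℕ} (hg : okTab g = true) (w : GolayPt → ZMod 2) (bt : Fin 11) :
    dualCo (w ∘ ⇑(permOf g)⁻¹) bt =
      ∑ j : Fin 11, dualCo w j * bz (((CocodeData.colsOf g).getD j.val 0).testBit bt.val) := by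
  obtain ⟨hv, hm⟩ := okTab_spec hg
  have h1 : dualCo (w ∘ ⇑(permOf g)⁻¹) bt = ∑ p, e (T (permOf g)⁻¹ (Cocode23.ev bt)) p * w p := by
    rw [e_T (inv_mem hm), e_ev, inv_inv, dualCo,
      ← Equiv.sum_comp (permOf g) (fun p => wordW (bmask bt) p * (w ∘ ⇑(permOf g)⁻¹) p)]
    simp only [Function.comp_apply, Equiv.Perm.coe_inv, Equiv.symm_apply_apply]
  rw [h1, dual_pairing]
  refine Finset.sum_congr rfl fun j _ => ?_
  rw [mul_comm]
  refine congrArg (dualCo w j * ·) ?_
  simp only [T, co, inv_inv, e_ev, wordW, idx_permOf hv, idx_pt, CocodeData.colsOf, getD_rowsOf]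
  rw [Nat.testBit_ofBits_lt _ _ bt.isLt]

/-- An extension by the cocode module as data. -/
theorem exists_cocodeData {E : Type*} [Group E] (N : Subgroup E) [hN : N.Normal]
    (φ : E ⧸ N ≃* ↥Spor.M23) (θ : (GolayPt → ZMod 2) →+ Additive ↥N)
    (hsurj : Function.Surjective θ)
    (hker : ∀ w : GolayPt → ZMod 2, θ w = 0 ↔ (w ∈ golayCode ∨ w + Pi.single none 1 ∈ golayCode))
    (hθ : ∀ (g : E) (w : GolayPt → ZMod 2),
      ((θ (w ∘ ⇑(((φ (QuotientGroup.mk g) : ↥Spor.M23) : Equiv.Perm GolayPt)⁻¹))).toMul : E)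
        = g * ((θ w).toMul : E) * g⁻¹) :
    ∃ X : Data CocodeData.colsOf E, X.π.ker = N := by
  classical
  let π : E →* Equiv.Perm GolayPt := Spor.M23.subtype.comp (φ.toMonoidHom.comp (QuotientGroup.mk' N))
  have hπ : ∀ a, π a = 1 ↔ a ∈ N := fun a => by
    show ((φ (QuotientGroup.mk a) : ↥Spor.M23) : Equiv.Perm GolayPt) = 1 ↔ _
    rw [OneMemClass.coe_eq_one, EmbeddingLike.map_eq_one_iff, QuotientGroup.eq_one_iff]
  have hz : ∀ w, θ w = 0 ↔ dualCo w = 0 := fun w => by
    rw [hker, ← kernel_iff]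
    refine ⟨fun h => funext fun j => ?_, fun h x => by
      rw [dual_pairing, h]; simp only [Pi.zero_apply, mul_zero, Finset.sum_const_zero]⟩
    have := h (Cocode23.ev j)
    rwa [e_ev] at this
  let ρ : E → V := fun a => if h : a ∈ N then dualCo (hsurj (Additive.ofMul ⟨a, h⟩)).choose else 0
  have dadd : ∀ v w, dualCo (v + w) = dualCo v + dualCo w := fun v w => funext fun j => by
    simp only [dualCo, Pi.add_apply, mul_add, Finset.sum_add_distrib]
  have hρ : ∀ (a : E) (w : GolayPt → ZMod 2), ((θ w).toMul : E) = a → ρ a = dualCo w := by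
    intro a w h
    have ha : a ∈ N := h ▸ (θ w).toMul.2
    show (if h : a ∈ N then dualCo (hsurj (Additive.ofMul ⟨a, h⟩)).choose else 0) = _
    rw [dif_pos ha]
    have h0 := (hsurj (Additive.ofMul ⟨a, ha⟩)).choose_spec
    set w0 := (hsurj (Additive.ofMul ⟨a, ha⟩)).choose
    have hw : θ w = Additive.ofMul ⟨a, ha⟩ := congrArg Additive.ofMul (Subtype.ext h : (θ w).toMul = ⟨a, ha⟩)
    have h2 : θ (w0 + w) = 0 := by
      rw [map_add, h0, ← hw, ← map_add, show w + w = 0 from funext fun p => z2 _, map_zero]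
    have h3 := (hz _).1 h2
    rw [dadd] at h3
    funext j
    have := congrFun h3 j
    simp only [Pi.add_apply, Pi.zero_apply] at this
    linear_combination this - z2 (dualCo w j)
  have hex : ∀ a, π a = 1 → ∃ w, ((θ w).toMul : E) = a := fun a ha => by
    obtain ⟨w, hw⟩ := hsurj (Additive.ofMul ⟨a, (hπ a).1 ha⟩)
    exact ⟨w, by rw [hw]; rfl⟩
  refine ⟨⟨π, ρ, fun a => (φ (QuotientGroup.mk a)).2, fun s hs => ?_, fun a b ha hb => ?_,
    fun a ha h0 => ?_, fun v => ?_, fun g hg h hh a ha bt => ?_⟩, Subgroup.ext fun a => ?_⟩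
  · obtain ⟨q, hq⟩ := φ.surjective ⟨s, hs⟩
    obtain ⟨a, rfl⟩ := QuotientGroup.mk_surjective q
    exact ⟨a, congrArg Subtype.val hq⟩
  · obtain ⟨v, rfl⟩ := hex a ha
    obtain ⟨w, rfl⟩ := hex b hb
    rw [hρ _ v rfl, hρ _ w rfl, hρ _ (v + w) (by rw [map_add]; rfl), dadd]
  · obtain ⟨w, rfl⟩ := hex a ha
    rw [hρ _ w rfl] at h0
    rw [(hz w).2 h0]
    rfl
  · let w : GolayPt → ZMod 2 := ∑ i, v i • (Pi.single (pt ⟨i.val + 1, by omega⟩) 1 : GolayPt → ZMod 2)
    refine ⟨((θ w).toMul : E), (hπ _).2 (θ w).toMul.2, ?_⟩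
    rw [hρ _ w rfl]
    funext j
    simp only [w, dualCo, Finset.sum_apply, Pi.smul_apply, smul_eq_mul, Finset.mul_sum, Pi.single_apply,
      mul_ite, mul_one, mul_zero]
    rw [Finset.sum_comm]
    simp only [Finset.sum_ite_eq', Finset.mem_univ, if_true]
    simp [pivots]
  · obtain ⟨w, rfl⟩ := hex a ha
    rw [hρ _ (w ∘ ⇑(permOf g)⁻¹) (by rw [← hh]; exact hθ h w), hρ _ w rfl]
    exact dual_act hg w bt
  · rw [MonoidHom.mem_ker]; exact hπ a

end CfsgLib.M23Coh
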