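/-
Extensions by the code module fit the symbolic setting.
-/
import Cfsg.Agent.M23Coh.CodeCheck

set_option autoImplicit false
set_option maxHeartbeats 1000000

namespace CfsgLib.M23Coh

open Cfsg CfsgLib.Golay CfsgLib.Golay.Cocode23

theorem vec_two_pow (j : Fin 11) : vec (2 ^ j.val) = Cocode23.ev j := by
  funext i
  simp only [vec, Cocode23.ev, Nat.testBit_two_pow, Pi.single_apply, bz]
  by_cases h : i = j
  · subst h; simp
  · simp [h, Fin.val_ne_of_ne (Ne.symm h)]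

theorem encM_two_pow : ∀ j : Fin 11, encM (2 ^ j.val) = bmask j := by decide +kernel

theorem T_tab {g : List ℕ} (hg : okTab g = true) (v : V) (bt : Fin 11) :
    T (permOf g) v bt =
      ∑ j : Fin 11, v j * bz (((CodeData.colsOf g).getD j.val 0).testBit bt.val) := by
  have hv := (okTab_spec hg).1
  let L : V →+ V := AddMonoidHom.mk' (T (permOf g)) (T_add _)
  have h : T (permOf g) v = ∑ j, v j • T (permOf g) (Cocode23.ev j) := by
    show L v = ∑ j, v j • L (Cocode23.ev j)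
    conv_lhs => rw [expand v, map_sum]
    refine Finset.sum_congr rfl fun j _ => ?_
    rcases (by decide : ∀ z : ZMod 2, z = 0 ∨ z = 1) (v j) with hj | hj <;> simp [hj]
  rw [h, Finset.sum_apply]
  refine Finset.sum_congr rfl fun j _ => ?_
  rw [Pi.smul_apply, smul_eq_mul]
  congr 1
  rw [← vec_two_pow, T_vec hv (by
    calc 2 ^ j.val ≤ 2 ^ 10 := Nat.pow_le_pow_right (by omega) (by omega)
      _ < 2048 := by norm_num), encM_two_pow, CodeData.colsOf, getD_rowsOf,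
    show (2048 : ℕ) = 2 ^ 11 from rfl, Nat.testBit_mod_two_pow]
  simp only [vec, bt.isLt, decide_true, Bool.true_and]

/-- An extension by the code module as data. -/
theorem exists_codeData {E : Type*} [Group E] (N : Subgroup E) [hN : N.Normal]
    (φ : E ⧸ N ≃* ↥Spor.M23)
    (ψ : Additive ↥N →+ (GolayPt → ZMod 2)) (hinj : Function.Injective ψ)
    (hrange : ∀ w : GolayPt → ZMod 2, w ∈ Set.range ψ ↔ (w ∈ golayCode ∧ w none = 0))
    (hψ : ∀ (g : E) (n : ↥N),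
      ψ (Additive.ofMul ⟨g * n * g⁻¹, hN.conj_mem n n.2 g⟩)
        = ψ (Additive.ofMul n) ∘ ⇑(((φ (QuotientGroup.mk g) : ↥Spor.M23) : Equiv.Perm GolayPt)⁻¹)) :
    ∃ X : Data CodeData.colsOf E, X.π.ker = N := by
  classical
  let π : E →* Equiv.Perm GolayPt := Spor.M23.subtype.comp (φ.toMonoidHom.comp (QuotientGroup.mk' N))
  have hπ : ∀ a, π a = 1 ↔ a ∈ N := fun a => by
    show ((φ (QuotientGroup.mk a) : ↥Spor.M23) : Equiv.Perm GolayPt) = 1 ↔ _
    rw [OneMemClass.coe_eq_one, EmbeddingLike.map_eq_one_iff, QuotientGroup.eq_one_iff]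
  let ρ : E → V := fun a => if h : a ∈ N then co (ψ (Additive.ofMul ⟨a, h⟩)) else 0
  have hρ : ∀ (a : E) (h : a ∈ N), ρ a = co (ψ (Additive.ofMul ⟨a, h⟩)) := fun a h => dif_pos h
  refine ⟨⟨π, ρ, fun a => (φ (QuotientGroup.mk a)).2, fun s hs => ?_, fun a b ha hb => ?_,
    fun a ha h0 => ?_, fun v => ?_, fun g hg h hh a ha bt => ?_⟩, Subgroup.ext fun a => ?_⟩
  · obtain ⟨q, hq⟩ := φ.surjective ⟨s, hs⟩
    obtain ⟨a, rfl⟩ := QuotientGroup.mk_surjective q
    exact ⟨a, congrArg Subtype.val hq⟩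
  · have ha' := (hπ a).1 ha
    have hb' := (hπ b).1 hb
    rw [hρ _ ha', hρ _ hb', hρ _ (N.mul_mem ha' hb'),
      show (Additive.ofMul (⟨a * b, N.mul_mem ha' hb'⟩ : ↥N)) = Additive.ofMul ⟨a, ha'⟩ + Additive.ofMul ⟨b, hb'⟩
        from rfl, map_add]
    rfl
  · have ha' := (hπ a).1 ha
    rw [hρ _ ha'] at h0
    have hm := (hrange _).1 ⟨Additive.ofMul ⟨a, ha'⟩, rfl⟩
    have h1 : ψ (Additive.ofMul ⟨a, ha'⟩) = 0 := by
      rw [← e_co hm.1 hm.2, h0]
      funext p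
      simp [e]
    have := hinj (h1.trans (map_zero ψ).symm)
    exact congrArg (fun t : Additive ↥N => ((t.toMul : ↥N) : E)) this
  · obtain ⟨⟨a, ha⟩, h⟩ := (hrange (e v)).2 (e_mem v)
    refine ⟨a, (hπ a).2 ha, ?_⟩
    rw [hρ _ ha, show ψ (Additive.ofMul ⟨a, ha⟩) = e v from h, co_e]
  · have ha' := (hπ a).1 ha
    rw [hρ _ (hN.conj_mem a ha' h), hψ h ⟨a, ha'⟩, hρ _ ha', ← T_tab hg]
    have hm := (hrange _).1 ⟨Additive.ofMul ⟨a, ha'⟩, rfl⟩
    rw [show ((φ (QuotientGroup.mk h) : ↥Spor.M23) : Equiv.Perm GolayPt) = permOf g from hh, T, e_co hm.1 hm.2]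
    rfl
  · rw [MonoidHom.mem_ker]; exact hπ a

end CfsgLib.M23Coh
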